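import Groth.Agent.Lib.InfStruct23.Basic
import Groth.Agent.Lib.H2Alg.PSHom
import Groth.Agent.Lib.Hens.Misc
import Groth.Agent.Lib.Compl.Complete

/-!
# Connected finite flat group schemes over a complete discrete valuation ring
-/

set_option autoImplicit false
set_option linter.style.haveILetI false
universe u v

noncomputable section

open IsLocalRing TensorProduct Groth.Agent.TruncPoly23

namespace Groth.Agent.InfStruct23

variable {R : Type u} [CommRing R]

/-- Dividing by the monomials `X i ^ q i`: a series is a box polynomial plus a combination. -/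
theorem exists_box_division {n : ℕ} (q : Fin n → ℕ) (F : MvPowerSeries (Fin n) R) :
    ∃ (c : ((i : Fin n) → Fin (q i)) → R) (H : Fin n → MvPowerSeries (Fin n) R),
      F = ∑ m, c m • boxMono (fun i => (MvPowerSeries.X i : MvPowerSeries (Fin n) R)) q m +
        ∑ i, (MvPowerSeries.X i : MvPowerSeries (Fin n) R) ^ q i * H i := by
  classical
  let expn : ((i : Fin n) → Fin (q i)) → (Fin n →₀ ℕ) := fun m => Finsupp.equivFunOnFinite.symm fun i => (m i : ℕ)
  let first : Fin n → (Fin n →₀ ℕ) → Prop := fun i d => q i ≤ d i ∧ ∀ j, j < i → d j < q j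
  let H : Fin n → MvPowerSeries (Fin n) R := fun i d =>
    if first i (d + Finsupp.single i (q i)) then MvPowerSeries.coeff (d + Finsupp.single i (q i)) F else 0
  refine ⟨fun m => MvPowerSeries.coeff (expn m) F, H, ?_⟩
  ext d
  have hmono : ∀ m : (i : Fin n) → Fin (q i),
      boxMono (fun i => (MvPowerSeries.X i : MvPowerSeries (Fin n) R)) q m =
        MvPowerSeries.monomial (expn m) (1 : R) := by
    intro m
    rw [MvPowerSeries.monomial_eq', map_one, one_mul, Finsupp.prod_fintype _ _ (fun i => pow_zero _)]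
    rfl
  have hterm : ∀ i, MvPowerSeries.coeff d ((MvPowerSeries.X i : MvPowerSeries (Fin n) R) ^ q i * H i) =
      if first i d then MvPowerSeries.coeff d F else 0 := by
    intro i
    rw [MvPowerSeries.X_pow_eq, MvPowerSeries.coeff_monomial_mul, one_mul]
    by_cases hle : Finsupp.single i (q i) ≤ d
    · rw [if_pos hle]
      show (if first i _ then _ else _) = _
      rw [tsub_add_cancel_of_le hle]
    · rw [if_neg hle, if_neg]
      exact fun h => hle (Finsupp.single_le_iff.mpr h.1)
  simp only [map_add, map_sum, map_smul, hmono, hterm, MvPowerSeries.coeff_monomial, smul_eq_mul,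
    mul_ite, mul_one, mul_zero]
  by_cases hbox : ∀ i, d i < q i
  · rw [Finset.sum_eq_zero (s := Finset.univ) (f := fun i : Fin n => if first i d then MvPowerSeries.coeff d F else 0)
      fun i _ => if_neg fun h => absurd (hbox i) (not_lt.mpr h.1), add_zero,
      Finset.sum_eq_single (fun i => (⟨d i, hbox i⟩ : Fin (q i)))]
    · have : expn (fun i => (⟨d i, hbox i⟩ : Fin (q i))) = d := Finsupp.ext fun i => by simp [expn]
      rw [this, if_pos rfl]
    · intro m _ hne
      rw [if_neg]
      intro h
      exact hne (funext fun i => Fin.ext (by simpa [expn] using (congrArg (fun f : Fin n →₀ ℕ => f i) h).symm))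
    · exact fun h => absurd (Finset.mem_univ _) h
  · push Not at hbox
    obtain ⟨i, hi, hmin⟩ : ∃ i, q i ≤ d i ∧ ∀ j, j < i → d j < q j := by
      obtain ⟨i, hi, hmin⟩ := (Finset.univ.filter fun i : Fin n => q i ≤ d i).exists_min_image id
        (by obtain ⟨i, hi⟩ := hbox; exact ⟨i, Finset.mem_filter.mpr ⟨Finset.mem_univ i, hi⟩⟩)
      refine ⟨i, (Finset.mem_filter.mp hi).2, fun j hj => not_le.mp fun hjn => ?_⟩
      exact absurd (hmin j (Finset.mem_filter.mpr ⟨Finset.mem_univ j, hjn⟩)) (not_le.mpr hj)
    rw [Finset.sum_eq_zero (s := Finset.univ) (f := fun m : (i : Fin n) → Fin (q i) =>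
        if d = expn m then MvPowerSeries.coeff (expn m) F else 0)
      fun m _ => if_neg fun h => by
        have h' := (m i).2
        rw [h] at hi
        simp [expn] at hi
        omega, zero_add, Finset.sum_eq_single i]
    · rw [if_pos ⟨hi, hmin⟩]
    · intro j _ hne
      rw [if_neg]
      rintro ⟨hj, hjmin⟩
      rcases lt_or_gt_of_ne hne with h | h
      · exact absurd (hmin j h) (not_lt.mpr hj)
      · exact absurd (hjmin i h) (not_lt.mpr hi)
    · exact fun h => absurd (Finset.mem_univ i) h

variable [IsDomain R] [IsDiscreteValuationRing R] [IsAdicComplete (maximalIdeal R) R]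
  (p : ℕ) [Fact p.Prime] [CharP (ResidueField R) p] [PerfectField (ResidueField R)]
  (A : Type v) [CommRing A] [HopfAlgebra R A] [Module.Finite R A] [Module.Flat R A] [IsLocalRing A]

theorem exists_presentation :
    ∃ (n : ℕ) (e : Fin n → ℕ) (g : Fin n → MvPolynomial (Fin n) R),
      (∀ i, (∀ d, (g i).coeff d ∈ maximalIdeal R) ∧ (g i).degreeOf i < p ^ e i) ∧
      Nonempty (A ≃ₐ[R] (MvPowerSeries (Fin n) R ⧸
        Ideal.span (Set.range fun i => (MvPowerSeries.X i : MvPowerSeries (Fin n) R) ^ p ^ e i + ↑(g i)))) := by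
  classical
  haveI : Module.Free R A := Module.free_of_flat_of_isLocalRing
  let k := ResidueField R
  haveI : ExpChar k p := ExpChar.prime Fact.out
  haveI : PerfectRing k p := inferInstance
  let A₀ := k ⊗[R] A
  let π : A →ₐ[R] A₀ := Algebra.TensorProduct.includeRight
  have hπ : Function.Surjective π := by
    intro z
    induction z using TensorProduct.induction_on with
    | zero => exact ⟨0, map_zero _⟩
    | add a c ha hc =>
      obtain ⟨a, rfl⟩ := ha
      obtain ⟨c, rfl⟩ := hc
      exact ⟨a + c, map_add _ _ _⟩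
    | tmul c a =>
      obtain ⟨r, rfl⟩ := residue_surjective c
      refine ⟨r • a, ?_⟩
      show (1 : k) ⊗ₜ[R] (r • a) = _
      rw [← TensorProduct.smul_tmul, Algebra.smul_def, mul_one]
      rfl
  have hker : ∀ a : A, π a = 0 → a ∈ (maximalIdeal R).map (algebraMap R A) := by
    intro a ha
    have h0 : (Ideal.Quotient.mk (maximalIdeal R) (1 : R)) ⊗ₜ[R] a = 0 := ha
    have h := congrArg (TensorProduct.quotTensorEquivQuotSMul A (maximalIdeal R)) h0
    rw [TensorProduct.quotTensorEquivQuotSMul_mk_tmul, one_smul, map_zero, Submodule.Quotient.mk_eq_zero] at h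
    rwa [Ideal.smul_top_eq_map, Submodule.restrictScalars_mem] at h
  haveI : Nontrivial A₀ := by
    have h : 0 < Module.finrank k A₀ := by
      rw [Module.finrank_baseChange]; exact Module.finrank_pos
    exact Module.nontrivial_of_finrank_pos h
  haveI : IsLocalRing A₀ := IsLocalRing.of_surjective' (π : A →+* A₀) hπ
  obtain ⟨G⟩ := nonempty_gens p A₀ (k := k)
  obtain ⟨n, x₀, e, he, hx₀, hx₀p, hbij⟩ := G
  choose x hx using fun i => hπ (x₀ i)
  let q : Fin n → ℕ := fun i => p ^ e i
  have hq0 : ∀ i, 0 < q i := fun i => pow_pos (Fact.out : p.Prime).pos _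
  let v : ((i : Fin n) → Fin (q i)) → A := fun m => boxMono x q m
  have hπv : ∀ m, π (v m) = boxMono x₀ q m := fun m => by
    simp only [v, boxMono, map_prod, map_pow, hx]
  have hspan : Submodule.span R (Set.range v) = ⊤ := by
    refine top_le_iff.mp (Submodule.le_of_le_smul_of_le_jacobson_bot Module.Finite.fg_top
      (IsLocalRing.jacobson_eq_maximalIdeal ⊥ bot_ne_top).ge fun a _ => ?_)
    obtain ⟨c, hc⟩ := hbij.2 (π a)
    choose c' hc' using fun m => residue_surjective (c m)
    have h0 : π (a - ∑ m, c' m • v m) = 0 := by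
      rw [map_sub, map_sum, sub_eq_zero, ← hc]
      refine Finset.sum_congr rfl fun m _ => ?_
      rw [map_smul, hπv, ← hc', ← IsLocalRing.ResidueField.algebraMap_eq, algebraMap_smul]
    have h1 := hker _ h0
    rw [← Submodule.restrictScalars_mem R, ← Ideal.smul_top_eq_map] at h1
    rw [show a = ∑ m, c' m • v m + (a - ∑ m, c' m • v m) by ring]
    exact Submodule.add_mem_sup
      (Submodule.sum_mem _ fun m _ => Submodule.smul_mem _ _ (Submodule.subset_span ⟨m, rfl⟩)) h1
  have hcard : Fintype.card ((i : Fin n) → Fin (q i)) = Module.finrank R A := by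
    have h : Module.finrank k A₀ = Fintype.card ((i : Fin n) → Fin (q i)) := by
      have : Module.Basis ((i : Fin n) → Fin (q i)) k A₀ := Module.Basis.ofEquivFun
        (LinearEquiv.ofBijective (Fintype.linearCombination k (boxMono x₀ q)) (by
          have : ⇑(Fintype.linearCombination k (boxMono x₀ q)) =
              fun c : ((i : Fin n) → Fin (q i)) → k => ∑ m, c m • boxMono x₀ q m :=
            funext fun c => Fintype.linearCombination_apply k _ c
          rw [this]; exact hbij)).symm
      exact Module.finrank_eq_card_basis this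
    rw [← h, Module.finrank_baseChange]
  let B : Module.Basis ((i : Fin n) → Fin (q i)) R A :=
    basisOfTopLeSpanOfCardEqFinrank v hspan.ge hcard
  have hB : ∀ m, B m = v m := fun m => by
    simp [B, coe_basisOfTopLeSpanOfCardEqFinrank]
  have hxnil : ∀ i, x i ∈ maximalIdeal A := fun i => by
    intro hu
    exact (IsNilpotent.not_isUnit ⟨q i, hx₀p i⟩) (hx i ▸ hu.map π)
  -- the coefficients of the relations
  let cst : Fin n → ((i : Fin n) → Fin (q i)) → R := fun i m => - B.repr (x i ^ q i) m
  let expn : ((i : Fin n) → Fin (q i)) → (Fin n →₀ ℕ) := fun m => Finsupp.equivFunOnFinite.symm fun i => (m i : ℕ)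
  let g : Fin n → MvPolynomial (Fin n) R := fun i => ∑ m, MvPolynomial.monomial (expn m) (cst i m)
  have hrepr : ∀ (a : A), π a = 0 → ∀ m, B.repr a m ∈ maximalIdeal R := by
    intro a ha m
    have h := hker a ha
    rw [← Submodule.restrictScalars_mem R, ← Ideal.smul_top_eq_map] at h
    refine Submodule.smul_induction_on h (fun r hr z _ => ?_) (fun a c ha hc => ?_)
    · rw [map_smul, Finsupp.smul_apply, smul_eq_mul]; exact Ideal.mul_mem_right _ _ hr
    · rw [map_add, Finsupp.add_apply]; exact add_mem ha hc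
  have hcst : ∀ i m, cst i m ∈ maximalIdeal R := fun i m => neg_mem (hrepr _ (by
    show π (x i ^ q i) = 0
    rw [map_pow, hx]; exact hx₀p i) m)
  have hgcoeff : ∀ i d, (g i).coeff d ∈ maximalIdeal R := fun i d => by
    rw [MvPolynomial.coeff_sum]
    refine Ideal.sum_mem _ fun m _ => ?_
    rw [MvPolynomial.coeff_monomial]
    split_ifs
    · exact hcst i m
    · exact zero_mem _
  have hgdeg : ∀ i, (g i).degreeOf i < p ^ e i := fun i => by
    refine lt_of_le_of_lt (MvPolynomial.degreeOf_sum_le i _ _) ?_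
    rw [Finset.sup_lt_iff (hq0 i)]
    intro m _
    by_cases h0 : cst i m = 0
    · rw [h0, MvPolynomial.monomial_zero, MvPolynomial.degreeOf_zero]; exact hq0 i
    · rw [MvPolynomial.degreeOf_monomial_eq _ _ h0]
      simp [expn, q]
  -- the evaluation map
  haveI := Groth.Agent.Hens.isAdicComplete_of_finite_projective (maximalIdeal R) A
  haveI hcA : IsAdicComplete ((maximalIdeal R).map (algebraMap R A)) A :=
    (IsAdicComplete.map_algebraMap_iff (maximalIdeal R) A).2 inferInstance
  obtain ⟨N, hN⟩ := exists_aug_pow_eq_bot (k := k) (A := A₀)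
  have hpow : maximalIdeal A ^ N ≤ (maximalIdeal R).map (algebraMap R A) := by
    intro a ha
    apply hker
    have h1 : (maximalIdeal A).map π ≤ aug k A₀ := by
      rw [aug_eq_maximalIdeal (k := k)]
      rw [Ideal.map_le_iff_le_comap]
      intro b hb hu
      obtain ⟨c, hc⟩ := hu.exists_right_inv
      obtain ⟨c, rfl⟩ := hπ c
      have h1 : 1 - b * c ∈ maximalIdeal A := by
        intro hu'
        have h' := hu'.map π
        rw [map_sub, map_one, map_mul, hc, sub_self] at h'
        exact not_isUnit_zero h'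
      have h3 := add_mem h1 (Ideal.mul_mem_right c _ hb)
      rw [sub_add_cancel] at h3
      exact (IsLocalRing.maximalIdeal.isMaximal A).ne_top ((Ideal.eq_top_iff_one _).mpr h3)
    have h2 := Ideal.mem_map_of_mem π ha
    rw [Ideal.map_pow] at h2
    exact Ideal.mem_bot.mp (hN ▸ Ideal.pow_right_mono h1 N h2)
  have hmaple : (maximalIdeal R).map (algebraMap R A) ≤ maximalIdeal A := by
    rw [Ideal.map_le_iff_le_comap]
    intro r hr hu
    have h := hu.map π
    rw [AlgHom.commutes, IsScalarTower.algebraMap_apply R k A₀, IsLocalRing.ResidueField.algebraMap_eq,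
      (IsLocalRing.residue_eq_zero_iff r).mpr hr, map_zero] at h
    exact not_isUnit_zero h
  haveI : IsAdicComplete (maximalIdeal A) A :=
    Groth.Agent.Compl.isAdicComplete_of_le_of_pow_le A hmaple hpow
  obtain ⟨Θ, hΘ⟩ := Groth.Agent.H2Alg.PSHom.exists_algHom (A := R) (maximalIdeal A) x hxnil
  -- the quotient
  set J := Ideal.span (Set.range fun i => (MvPowerSeries.X i : MvPowerSeries (Fin n) R) ^ p ^ e i + ↑(g i))
  have hΘg : ∀ i, Θ (g i : MvPowerSeries (Fin n) R) = - x i ^ q i := by
    intro i
    have h0 : Θ (g i : MvPowerSeries (Fin n) R) = MvPolynomial.aeval x (g i) := by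
      have : Θ.comp (MvPolynomial.coeToMvPowerSeries.algHom R) = MvPolynomial.aeval x :=
        MvPolynomial.algHom_ext fun j => by simp [MvPolynomial.coeToMvPowerSeries.algHom_apply, hΘ]
      simpa [MvPolynomial.coeToMvPowerSeries.algHom_apply] using congr($this (g i))
    rw [h0, map_sum]
    conv_rhs => rw [← B.sum_repr (x i ^ q i), ← Finset.sum_neg_distrib]
    refine Finset.sum_congr rfl fun m _ => ?_
    rw [MvPolynomial.aeval_monomial, Finsupp.prod_fintype _ _ (fun i => pow_zero _), hB, ← neg_smul,
      ← Algebra.smul_def]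
    rfl
  have hJ : ∀ a ∈ J, Θ a = 0 := by
    intro a ha
    have : J ≤ RingHom.ker Θ := by
      rw [Ideal.span_le]
      rintro _ ⟨i, rfl⟩
      rw [SetLike.mem_coe, RingHom.mem_ker, map_add, map_pow, hΘ, hΘg]
      exact add_neg_cancel _
    exact this ha
  let Θ' : (MvPowerSeries (Fin n) R ⧸ J) →ₐ[R] A := Ideal.Quotient.liftₐ J Θ hJ
  let X : Fin n → MvPowerSeries (Fin n) R ⧸ J := fun i => Ideal.Quotient.mk J (MvPowerSeries.X i)
  let Ψ : (((i : Fin n) → Fin (q i)) → R) →ₗ[R] MvPowerSeries (Fin n) R ⧸ J :=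
    Fintype.linearCombination R (boxMono X q)
  have hcomp : ∀ c, Θ' (Ψ c) = ∑ m, c m • B m := by
    intro c
    rw [Fintype.linearCombination_apply, map_sum]
    refine Finset.sum_congr rfl fun m _ => ?_
    rw [map_smul, hB]
    congr 1
    simp only [boxMono, map_prod, map_pow, v]
    exact Finset.prod_congr rfl fun i _ => congrArg (· ^ (m i : ℕ)) (hΘ i)
  haveI : IsAdicComplete (maximalIdeal R) (((i : Fin n) → Fin (q i)) → R) :=
    Groth.Agent.Hens.isAdicComplete_of_finite_projective _ _
  have hC : (maximalIdeal R).map (algebraMap R (MvPowerSeries (Fin n) R ⧸ J)) ≠ ⊤ := by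
    intro e
    have hle : (maximalIdeal R).map (algebraMap R (MvPowerSeries (Fin n) R ⧸ J)) ≤
        (maximalIdeal A).comap Θ' := by
      rw [Ideal.map_le_iff_le_comap]
      intro r hr
      show Θ' (algebraMap R _ r) ∈ maximalIdeal A
      rw [AlgHom.commutes]
      exact hmaple (Ideal.mem_map_of_mem _ hr)
    have h1 : Θ' 1 ∈ maximalIdeal A := hle (e ▸ Submodule.mem_top)
    rw [map_one] at h1
    exact (IsLocalRing.maximalIdeal.isMaximal A).ne_top ((Ideal.eq_top_iff_one _).mpr h1)
  haveI : IsHausdorff (maximalIdeal R) (MvPowerSeries (Fin n) R ⧸ J) := by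
    haveI : Nontrivial (MvPowerSeries (Fin n) R ⧸ J) := Θ'.toRingHom.domain_nontrivial
    haveI : IsLocalRing (MvPowerSeries (Fin n) R ⧸ J) :=
      IsLocalRing.of_surjective' (Ideal.Quotient.mk J) Ideal.Quotient.mk_surjective
    exact IsHausdorff.map_algebraMap_iff.mp (IsHausdorff.of_isLocalRing _ _ hC)
  have hΨ : Function.Surjective Ψ := by
    refine surjective_of_mkQ_comp_surjective (I := maximalIdeal R) fun y => ?_
    obtain ⟨y, rfl⟩ := Submodule.mkQ_surjective _ y
    obtain ⟨F, rfl⟩ := Ideal.Quotient.mk_surjective y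
    obtain ⟨c, H, hF⟩ := exists_box_division q F
    refine ⟨c, ?_⟩
    rw [LinearMap.comp_apply, Submodule.mkQ_apply, Submodule.mkQ_apply, Submodule.Quotient.eq,
      Ideal.smul_top_eq_map, Submodule.restrictScalars_mem]
    have e1 : Ψ c = Ideal.Quotient.mk J (∑ m, c m • boxMono (fun i => (MvPowerSeries.X i : MvPowerSeries (Fin n) R)) q m) := by
      rw [Fintype.linearCombination_apply, ← Ideal.Quotient.mkₐ_eq_mk R, map_sum]
      refine Finset.sum_congr rfl fun m _ => ?_
      rw [map_smul, boxMono, boxMono, map_prod]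
      simp only [map_pow]
      rfl
    rw [e1, hF, map_add, sub_add_cancel_left, map_sum]
    refine neg_mem (Ideal.sum_mem _ fun i _ => ?_)
    rw [map_mul]
    refine Ideal.mul_mem_right _ _ ?_
    have e2 : Ideal.Quotient.mk J (MvPowerSeries.X i ^ q i) = - Ideal.Quotient.mk J (g i : MvPowerSeries (Fin n) R) := by
      rw [eq_neg_iff_add_eq_zero, ← map_add, Ideal.Quotient.eq_zero_iff_mem]
      exact Ideal.subset_span ⟨i, rfl⟩
    rw [e2]
    refine neg_mem ?_
    have e3 : (g i : MvPowerSeries (Fin n) R) = ∑ m, cst i m • MvPowerSeries.monomial (expn m) (1 : R) := by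
      rw [show (g i : MvPowerSeries (Fin n) R) = MvPolynomial.coeToMvPowerSeries.ringHom (g i) from rfl, map_sum]
      refine Finset.sum_congr rfl fun m _ => ?_
      rw [MvPolynomial.coeToMvPowerSeries.ringHom_apply, MvPolynomial.coe_monomial, ← map_smul, smul_eq_mul, mul_one]
    rw [e3, map_sum]
    refine Ideal.sum_mem _ fun m _ => ?_
    rw [Algebra.smul_def, map_mul, Ideal.Quotient.mk_algebraMap]
    exact Ideal.mul_mem_right _ _ (Ideal.mem_map_of_mem _ (hcst i m))
  refine ⟨n, e, g, fun i => ⟨hgcoeff i, hgdeg i⟩,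
    ⟨(AlgEquiv.ofBijective Θ' ⟨fun a a' h => ?_, fun z => ?_⟩).symm⟩⟩
  · obtain ⟨c, rfl⟩ := hΨ a
    obtain ⟨c', rfl⟩ := hΨ a'
    rw [hcomp, hcomp] at h
    congr 1
    exact B.equivFun.symm.injective (by simpa [Module.Basis.equivFun_symm_apply] using h)
  · refine ⟨Ψ (fun m => B.repr z m), ?_⟩
    rw [hcomp]
    exact B.sum_repr z

end Groth.Agent.InfStruct23
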